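import Cfsg.Agent.H528.KGV.Tools
import Cfsg.Agent.H599.GoodA
import Cfsg.Agent.H203.LSG2
import Cfsg.Agent.H203.LSTwD4
import Cfsg.Agent.H203.LSTwF4
import Cfsg.Agent.H203.LSSz

/-!
# TEAM KGV: exceptional groups, the generic rows (helper528)

`³D₄(q)`, `²G₂(q)`, `²F₄(q)`, `Sz(q)` for `q ≥ 32`, `G₂(q)` for `q ≥ 5`.
-/

set_option autoImplicit false
set_option linter.unusedSectionVars false

namespace Cfsg.Agent.H528.KGV

open Cfsg Cfsg.Lie Cfsg.Agent.H960.KGV Cfsg.Agent.H203.LS Cfsg.Agent.H599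

theorem dvd_six {q r : ℕ} (hq : 1 ≤ q) (hr : r = 2 ∨ r = 3) : r ∣ q ∨ r ∣ q ^ 6 - 1 := by
  by_cases h : r ∣ q
  · exact Or.inl h
  right
  refine (Nat.modEq_iff_dvd' (Nat.one_le_pow _ _ hq)).1 ?_
  rcases hr with rfl | rfl
  · have : q % 2 = 1 := by omega
    simp [Nat.ModEq, Nat.pow_mod, this]
  · have : q % 3 = 1 ∨ q % 3 = 2 := by omega
    rcases this with h | h <;> simp [Nat.ModEq, Nat.pow_mod, h]

theorem pow_succ_le {c k n : ℕ} (hk : (n + 1) ^ k ≤ c * n ^ k) {A : ℕ} {f : ℕ} (h : A * n ^ k ≤ c ^ f) :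
    A * (n + 1) ^ k ≤ c ^ (f + 1) := by
  calc A * (n + 1) ^ k ≤ A * (c * n ^ k) := Nat.mul_le_mul_left _ hk
    _ = A * n ^ k * c := by ring
    _ ≤ c ^ f * c := Nat.mul_le_mul_right _ h
    _ = _ := (pow_succ c f).symm

/-- `2 n ^ 8 ≤ 5 ^ (n - 2)` -/
theorem num_ree {n : ℕ} (hn : 27 ≤ n) : 2 * n ^ 8 ≤ 5 ^ (n - 2) := by
  induction n, hn using Nat.le_induction with
  | base => norm_num
  | succ n hn ih =>
    have e : n + 1 - 2 = n - 2 + 1 := by omega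
    rw [e]
    refine pow_succ_le ?_ ih
    have h1 : 8 * (n + 1) ≤ 9 * n := by omega
    have h2 : (8 * (n + 1)) ^ 8 ≤ (9 * n) ^ 8 := Nat.pow_le_pow_left h1 8
    rw [mul_pow, mul_pow] at h2
    have h3 : (9 : ℕ) ^ 8 ≤ 5 * 8 ^ 8 := by norm_num
    have h4 : 8 ^ 8 * (n + 1) ^ 8 ≤ 8 ^ 8 * (5 * n ^ 8) := by
      calc 8 ^ 8 * (n + 1) ^ 8 ≤ 9 ^ 8 * n ^ 8 := h2
        _ ≤ 5 * 8 ^ 8 * n ^ 8 := Nat.mul_le_mul_right _ h3
        _ = _ := by ring
    exact Nat.le_of_mul_le_mul_left h4 (by norm_num)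

/-- `2 n ^ 6 ≤ 3 ^ (n - 2)` -/
theorem num_sz {n : ℕ} (hn : 32 ≤ n) : 2 * n ^ 6 ≤ 3 ^ (n - 2) := by
  induction n, hn using Nat.le_induction with
  | base => norm_num
  | succ n hn ih =>
    have e : n + 1 - 2 = n - 2 + 1 := by omega
    rw [e]
    refine pow_succ_le ?_ ih
    have h1 : 8 * (n + 1) ≤ 9 * n := by omega
    have h2 : (8 * (n + 1)) ^ 6 ≤ (9 * n) ^ 6 := Nat.pow_le_pow_left h1 6
    rw [mul_pow, mul_pow] at h2
    have h3 : (9 : ℕ) ^ 6 ≤ 3 * 8 ^ 6 := by norm_num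
    have h4 : 8 ^ 6 * (n + 1) ^ 6 ≤ 8 ^ 6 * (3 * n ^ 6) := by
      calc 8 ^ 6 * (n + 1) ^ 6 ≤ 9 ^ 6 * n ^ 6 := h2
        _ ≤ 3 * 8 ^ 6 * n ^ 6 := Nat.mul_le_mul_right _ h3
        _ = _ := by ring
    exact Nat.le_of_mul_le_mul_left h4 (by norm_num)

/-- `n ^ 5 ≤ 5 ^ n` for `5 ≤ n` -/
theorem pow_five_le {n : ℕ} (hn : 5 ≤ n) : n ^ 5 ≤ 5 ^ n := by
  induction n, hn using Nat.le_induction with
  | base => norm_num
  | succ n hn ih =>
    have h := pow_succ_le (c := 5) (k := 5) (n := n) (A := 1) (f := n) ?_ (by rwa [one_mul])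
    · rwa [one_mul] at h
    have h1 : 5 * (n + 1) ≤ 6 * n := by omega
    have h2 : (5 * (n + 1)) ^ 5 ≤ (6 * n) ^ 5 := Nat.pow_le_pow_left h1 5
    rw [mul_pow, mul_pow] at h2
    have h3 : (6 : ℕ) ^ 5 ≤ 5 * 5 ^ 5 := by norm_num
    have h4 : 5 ^ 5 * (n + 1) ^ 5 ≤ 5 ^ 5 * (5 * n ^ 5) := by
      calc 5 ^ 5 * (n + 1) ^ 5 ≤ 6 ^ 5 * n ^ 5 := h2
        _ ≤ 5 * 5 ^ 5 * n ^ 5 := Nat.mul_le_mul_right _ h3
        _ = _ := by ring
    exact Nat.le_of_mul_le_mul_left h4 (by norm_num)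

theorem num_g2 {q : ℕ} (hq : 5 ≤ q) : 2 * (q ^ 14 * (2 * q)) ≤ 5 ^ ((q - 1) * q - 1) := by
  have h1 := pow_five_le hq
  calc 2 * (q ^ 14 * (2 * q)) = 4 * (q ^ 5) ^ 3 := by ring
    _ ≤ 5 * (5 ^ q) ^ 3 := Nat.mul_le_mul (by norm_num) (Nat.pow_le_pow_left h1 3)
    _ = 5 ^ (3 * q + 1) := by rw [← pow_mul, mul_comm 5, ← pow_succ]; congr 1; ring
    _ ≤ _ := Nat.pow_le_pow_right (by norm_num) (by
      obtain ⟨w, rfl⟩ : ∃ w, q = w + 5 := ⟨q - 5, by omega⟩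
      have : (w + 5 - 1) * (w + 5) = w ^ 2 + 9 * w + 20 := by
        rw [show w + 5 - 1 = w + 4 by omega]; ring
      have := Nat.zero_le (w ^ 2)
      omega)

theorem le_two_pow (q : ℕ) : q ≤ 2 ^ q := Nat.lt_two_pow_self.le

theorem num_td4 {q : ℕ} (hq : 2 ≤ q) : 2 * (q ^ 28 * (3 * (q - 1))) ≤ 5 ^ ((q - 1) * q ^ 4 - 1) := by
  rcases Nat.lt_or_ge q 3 with h | h
  · obtain rfl : q = 2 := by omega
    norm_num
  · calc 2 * (q ^ 28 * (3 * (q - 1))) ≤ 8 * q ^ 29 := by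
          rw [pow_succ q 28]
          have : q - 1 ≤ q := Nat.sub_le _ _
          nlinarith [Nat.mul_le_mul_left (q ^ 28) this, Nat.zero_le (q ^ 28 * q)]
      _ ≤ 2 ^ 3 * (2 ^ q) ^ 29 := Nat.mul_le_mul (by norm_num) (Nat.pow_le_pow_left (le_two_pow q) _)
      _ = 2 ^ (29 * q + 3) := by rw [← pow_mul, ← pow_add]; congr 1; ring
      _ ≤ 2 ^ (2 * ((q - 1) * q ^ 4 - 1)) := Nat.pow_le_pow_right (by norm_num) (by
          obtain ⟨w, rfl⟩ : ∃ w, q = w + 3 := ⟨q - 3, by omega⟩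
          have e : (w + 3 - 1) * (w + 3) ^ 4 = w ^ 5 + 14 * w ^ 4 + 78 * w ^ 3 + 216 * w ^ 2 + 297 * w + 162 := by
            rw [show w + 3 - 1 = w + 2 by omega]; ring
          rw [e]
          have := Nat.zero_le (w ^ 5)
          have := Nat.zero_le (w ^ 4)
          have := Nat.zero_le (w ^ 3)
          have := Nat.zero_le (w ^ 2)
          omega)
      _ = (2 ^ 2) ^ ((q - 1) * q ^ 4 - 1) := by rw [← pow_mul]
      _ ≤ _ := Nat.pow_le_pow_left (by norm_num) _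

theorem num_tf4 {q : ℕ} (hq : 8 ≤ q) : 2 * (q ^ 26 * q) ≤ 5 ^ ((q - 1) * q ^ 2 - 1) := by
  calc 2 * (q ^ 26 * q) = 2 ^ 1 * q ^ 27 := by ring
    _ ≤ 2 ^ 1 * (2 ^ q) ^ 27 := Nat.mul_le_mul_left _ (Nat.pow_le_pow_left (le_two_pow q) _)
    _ = 2 ^ (27 * q + 1) := by rw [← pow_mul, ← pow_add]; congr 1; ring
    _ ≤ 2 ^ (2 * ((q - 1) * q ^ 2 - 1)) := Nat.pow_le_pow_right (by norm_num) (by
        obtain ⟨w, rfl⟩ : ∃ w, q = w + 8 := ⟨q - 8, by omega⟩
        have e : (w + 8 - 1) * (w + 8) ^ 2 = w ^ 3 + 23 * w ^ 2 + 176 * w + 448 := by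
          rw [show w + 8 - 1 = w + 7 by omega]; ring
        rw [e]
        have := Nat.zero_le (w ^ 3)
        have := Nat.zero_le (w ^ 2)
        omega)
    _ = (2 ^ 2) ^ ((q - 1) * q ^ 2 - 1) := by rw [← pow_mul]
    _ ≤ _ := Nat.pow_le_pow_left (by norm_num) _

/-! ### the rows -/

/-- `³D₄(q)` -/
theorem rowD4 : RowOf (fun T _ => Lie.Iso3D4 T) := by
  rintro T _ _ _ hT ⟨K, _, _, q, hq, hK, ⟨e⟩⟩
  have : Finite (GL chevD4.Idx K) := inferInstance
  have hq2 : 2 ≤ q := hq.one_lt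
  obtain ⟨l, a, hl, ha, hla⟩ := (isPrimePow_nat_iff _).1 hq
  have : Fact l.Prime := ⟨hl⟩
  have hcp : CharP K l := by
    obtain ⟨p', hp'⟩ := CharP.exists K
    obtain ⟨k, hpp, hk⟩ := FiniteField.card K p'
    have h1 : p' ∣ l := hpp.dvd_of_dvd_pow (n := a * 3) (by
      rw [pow_mul, hla, ← hK, hk]; exact dvd_pow_self p' k.pos.ne')
    rwa [← (Nat.prime_dvd_prime_iff_eq hpp hl).1 h1]
  have hcard := S1067.result (K := K) hq hK
  have hd : ∀ r : ℕ, r = 2 ∨ r = 3 → r ∣ Nat.card ↥(twistedD4 K q) := by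
    intro r hr
    rw [hcard]
    rcases dvd_six (q := q) (by omega) hr with h | h
    · exact (((h.trans (dvd_pow_self _ (by norm_num))).mul_right _).mul_right _).mul_right _
    · exact (h.mul_left _).mul_right _
  have hlX : l ∣ Nat.card ↥(twistedD4 K q) := by
    rw [hcard]
    have h : l ∣ q := by rw [← hla]; exact dvd_pow_self l (by omega)
    exact (((h.trans (dvd_pow_self _ (by norm_num))).mul_right _).mul_right _).mul_right _
  exact row_triv e hl hlX (H203.LS.TwD4.ls hq hK) (b := 5) (by norm_num)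
    (fun p hp h => five_le (hd 2 (Or.inl rfl)) (hd 3 (Or.inr rfl)) hp h) (GoodA.td4_out hq hK) (GoodA.td4_card_le hq hK)
    (num_td4 hq2)

/-- `²G₂(q)` -/
theorem rowRee : RowOf (fun T _ => Lie.IsoRee T) := by
  rintro T _ _ _ hT ⟨K, _, _, m, hm, hK, ⟨e⟩⟩
  have : Finite (GL chevG2.Idx K) := inferInstance
  have hcard := S1069.result hK
  have hout := S2127.result hm hK
  have hle := GoodA.ree_card_le hK
  have hls := LS.ree.{0, 0, 0} hm hK
  rw [Nat.card_eq_fintype_card, hK] at hls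
  set q := 3 ^ (2 * m + 1) with hq
  have h27 : 27 ≤ q := by
    rw [hq]
    calc 27 = 3 ^ 3 := by norm_num
      _ ≤ 3 ^ (2 * m + 1) := Nat.pow_le_pow_right (by norm_num) (by omega)
  have h3q : 3 ∣ q := dvd_pow_self 3 (by omega)
  have h3 : 3 ∣ Nat.card ↥(twistedG2 K (3 ^ m)) := by
    rw [hcard]
    exact ((h3q.trans (dvd_pow_self _ (by norm_num))).mul_right _).mul_right _
  have h2 : 2 ∣ Nat.card ↥(twistedG2 K (3 ^ m)) := by
    rw [hcard]
    have h4 : Odd q := Odd.pow (by decide)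
    have h5 : 2 ∣ q - 1 := by
      obtain ⟨c, hc⟩ := h4
      exact ⟨c, by omega⟩
    exact (h5.mul_left _).mul_right _
  have hf : 2 * m + 1 ≤ q := (Nat.lt_pow_self (by norm_num)).le
  refine row_triv e Nat.prime_three h3 hls (b := 5) (by norm_num)
    (fun p hp h => five_le h2 h3 hp h) (o := q) (N := q ^ 7) (hout.le.trans hf) hle ?_
  rw [← pow_succ]
  exact (num_ree h27).trans (Nat.pow_le_pow_right (by norm_num) (by omega))

/-- `²F₄(q)` -/
theorem rowF4T : RowOf (fun T _ => Lie.Iso2F4 T) := by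
  rintro T _ _ _ hT ⟨K, _, _, m, hm, hK, ⟨e⟩⟩
  have : Finite (GL chevF4.Idx K) := inferInstance
  have hcard := S1068.result hK
  have hout := S2128.result hm hK
  have hle := GoodA.tf4_card_le hK
  have hls := H203.LS.TwF4.ls.{0, 0, 0} hm hK
  rw [Nat.card_eq_fintype_card, hK] at hls
  set q := 2 ^ (2 * m + 1) with hq
  have h8 : 8 ≤ q := by
    rw [hq]
    calc 8 = 2 ^ 3 := by norm_num
      _ ≤ 2 ^ (2 * m + 1) := Nat.pow_le_pow_right (by norm_num) (by omega)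
  have h2q : 2 ∣ q := dvd_pow_self 2 (by omega)
  have h2 : 2 ∣ Nat.card ↥(twistedF4 K (2 ^ m)) := by
    rw [hcard]
    exact ((((h2q.trans (dvd_pow_self _ (by norm_num))).mul_right _).mul_right _).mul_right _).mul_right _
  have h3 : 3 ∣ Nat.card ↥(twistedF4 K (2 ^ m)) := by
    rw [hcard]
    have h4 : q % 3 = 2 := by
      rw [hq, pow_succ, pow_mul, Nat.mul_mod, Nat.pow_mod]
      norm_num
    have h5 : 3 ∣ q ^ 3 + 1 := by
      apply Nat.dvd_of_mod_eq_zero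
      rw [Nat.add_mod, Nat.pow_mod, h4]
    exact ((h5.mul_left _).mul_right _).mul_right _
  have hf : 2 * m + 1 ≤ q := (Nat.lt_pow_self (by norm_num)).le
  exact row_triv e Nat.prime_two h2 hls (b := 5) (by norm_num)
    (fun p hp h => five_le h2 h3 hp h) (o := q) (N := q ^ 26) (hout.le.trans hf) hle (num_tf4 h8)

/-- `Sz(q)`, `q ≥ 32` -/
theorem rowSz_large {T : Type} [Group T] [Finite T] [Nontrivial T] {F : Type} [Field F] [Fintype F] {m : ℕ} (hm : 2 ≤ m)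
    (hF : Fintype.card F = 2 ^ (2 * m + 1)) (e : T ≃* ↥(Cfsg.Lie.Sz F (2 ^ (m + 1)))) : Row T := by
  have hcard := (S1163.result (by omega) hF).1
  have hout := S2126.result (by omega) hF
  have hle := GoodA.sz_card_le (by omega) hF
  have hls := LS.sz.{0, 0, 0} (by omega) hF
  rw [Nat.card_eq_fintype_card, hF] at hls
  set q := 2 ^ (2 * m + 1) with hq
  have h32 : 32 ≤ q := by
    rw [hq]
    calc 32 = 2 ^ 5 := by norm_num
      _ ≤ 2 ^ (2 * m + 1) := Nat.pow_le_pow_right (by norm_num) (by omega)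
  have h2q : 2 ∣ q := dvd_pow_self 2 (by omega)
  have h2 : 2 ∣ Nat.card ↥(Cfsg.Lie.Sz F (2 ^ (m + 1))) := by
    rw [hcard]
    exact ((h2q.trans (dvd_pow_self _ (by norm_num))).mul_right _).mul_right _
  have hf : 2 * m + 1 ≤ q := (Nat.lt_pow_self (by norm_num)).le
  refine row_triv e Nat.prime_two h2 hls (b := 3) (by norm_num)
    (fun p hp h => three_le h2 hp h) (o := q) (N := q ^ 5) (hout.le.trans hf) hle ?_
  rw [← pow_succ]
  exact (num_sz h32).trans (Nat.pow_le_pow_right (by norm_num) (by omega))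

/-- `G₂(q)`, `q ≥ 5` -/
theorem rowG2_large {T : Type} [Group T] [Finite T] [Nontrivial T] {F : Type} [Field F] [Fintype F]
    (h5 : 5 ≤ Fintype.card F) (e : T ≃* ↥(chevG2.group F)) : Row T := by
  have : Finite (GL chevG2.Idx F) := inferInstance
  obtain ⟨p, f, hp, hc, hf, hF⟩ := H599.IdxE.exists_char F
  have : Fact p.Prime := ⟨hp⟩
  have hout := S2121.result p f hF (by rw [← hF]; omega)
  have hcard := S1059.result (F := F) rfl
  have hle := IdxG2.card_le (F := F)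
  have hls := H203.LS.G2.ls.{0, 0, 0} (r := p) F (by rw [Nat.card_eq_fintype_card]; omega)
    (by rw [Nat.card_eq_fintype_card]; omega)
  rw [Nat.card_eq_fintype_card] at hls
  set q := Fintype.card F with hq
  have hd : ∀ r : ℕ, r = 2 ∨ r = 3 → r ∣ Nat.card ↥(chevG2.group F) := by
    intro r hr
    rw [hcard]
    rcases dvd_six (q := q) (by omega) hr with h | h
    · exact ((h.trans (dvd_pow_self _ (by norm_num))).mul_right _).mul_right _
    · exact h.mul_left _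
  have hpX : p ∣ Nat.card ↥(chevG2.group F) := by
    rw [hcard]
    have h : p ∣ q := by rw [hF]; exact dvd_pow_self p (by omega)
    exact ((h.trans (dvd_pow_self _ (by norm_num))).mul_right _).mul_right _
  have hfq : f ≤ q := by rw [hF]; exact (Nat.lt_pow_self hp.one_lt).le
  have hout' : Nat.card (Cfsg.Out ↥(chevG2.group F)) ≤ 2 * q := by
    rw [hout]
    split_ifs <;> omega
  exact row_triv e hp hpX hls (b := 5) (by norm_num)
    (fun p hp h => five_le (hd 2 (Or.inl rfl)) (hd 3 (Or.inr rfl)) hp h) hout' hle (num_g2 h5)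

end Cfsg.Agent.H528.KGV
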