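import Cfsg.Agent.H528.KGV.ExcA
import Cfsg.Agent.H540.EngG
import Cfsg.Agent.H599.GoodC
import Cfsg.Agent.H235.TitsRow
import Cfsg.Agent.H867.TitsOut
import Cfsg.Agent.S1059
import Cfsg.Agent.S2238
import Cfsg.Agent.S0330
import Cfsg.Agent.OddCyclic.ClaimC.SzIso

/-!
# TEAM KGV: exceptional groups, the small groups (helper528)

`Sz(8)`, `G₂(3)`, `G₂(4)`, the Tits group; the rows `rowSz`, `rowG2`, `rowTits`.
-/

set_option autoImplicit false
set_option linter.unusedSectionVars false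

namespace Cfsg.Agent.H528.KGV

open Cfsg Cfsg.Lie Cfsg.Agent.H960.KGV Cfsg.Agent.H203.LS Cfsg.Agent.H599

/-! ### tools -/

/-- the inequality, from the inequality for `f₀ ≤ f` -/
theorem num_of {p f f₀ d K : ℕ} (hp : 2 ≤ p) (hf₀ : 1 ≤ f₀) (hf : f₀ ≤ f) (hd : 2 ≤ d)
    (h : 2 * f₀ * K ≤ p ^ (f₀ * (d - 1))) : 2 * f * (p ^ f - 1) * K ≤ (p ^ f) ^ d := by
  have h1 : f ≤ f₀ * p ^ ((f - f₀) * (d - 1)) := by
    have h2 : f - f₀ < 2 ^ (f - f₀) := Nat.lt_two_pow_self
    have h4 : f ≤ f₀ * 2 ^ (f - f₀) := by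
      calc f = f₀ + (f - f₀) := by omega
        _ ≤ f₀ + f₀ * (f - f₀) := Nat.add_le_add_left (Nat.le_mul_of_pos_left _ hf₀) _
        _ = f₀ * (f - f₀ + 1) := by ring
        _ ≤ _ := Nat.mul_le_mul_left _ h2
    calc f ≤ f₀ * 2 ^ (f - f₀) := h4
      _ ≤ f₀ * p ^ (f - f₀) := Nat.mul_le_mul_left _ (Nat.pow_le_pow_left hp _)
      _ ≤ _ := Nat.mul_le_mul_left _ (Nat.pow_le_pow_right (by omega) (Nat.le_mul_of_pos_right _ (by omega)))
  have h3 : 2 * f * K ≤ (p ^ f) ^ (d - 1) := by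
    calc 2 * f * K ≤ 2 * (f₀ * p ^ ((f - f₀) * (d - 1))) * K :=
          Nat.mul_le_mul_right _ (Nat.mul_le_mul_left _ h1)
      _ = (2 * f₀ * K) * p ^ ((f - f₀) * (d - 1)) := by ring
      _ ≤ p ^ (f₀ * (d - 1)) * p ^ ((f - f₀) * (d - 1)) := Nat.mul_le_mul_right _ h
      _ = (p ^ f) ^ (d - 1) := by
        rw [← pow_add, ← pow_mul, ← add_mul]
        congr 2
        omega
  calc 2 * f * (p ^ f - 1) * K = 2 * f * K * (p ^ f - 1) := by ring
    _ ≤ (p ^ f) ^ (d - 1) * p ^ f := Nat.mul_le_mul h3 (Nat.sub_le _ _)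
    _ = _ := by
      rw [← pow_succ]
      congr 1
      omega

/-- centralizers of elements of prime order -/
theorem cent_dvd {G : Type*} [Group G] [Finite G] {x : G} {a b : ℕ}
    (hG : Nat.card G = a * b) (h : ∀ r : ℕ, r.Prime → r ∣ b → ¬ ∃ y : G, x * y = y * x ∧ orderOf y = r) :
    Nat.card (Subgroup.centralizer ({x} : Set G)) ∣ a := by
  have h1 : Nat.card (Subgroup.centralizer ({x} : Set G)) ∣ a * b := hG ▸ Subgroup.card_subgroup_dvd_card _
  refine Nat.Coprime.dvd_of_dvd_mul_right ?_ h1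
  refine Nat.coprime_of_dvd fun r hr h2 h3 => ?_
  have := Fact.mk hr
  obtain ⟨⟨y, hy⟩, hyr⟩ := exists_prime_orderOf_dvd_card' r h2
  rw [Subgroup.orderOf_mk] at hyr
  exact h r hr h3 ⟨y, (Subgroup.mem_centralizer_singleton_iff.1 hy).symm, hyr⟩

theorem orderOf_mul_of_prime {G : Type*} [Group G] {x y : G} {s r : ℕ} (hs : s.Prime) (hr : r.Prime) (hne : s ≠ r)
    (hx : orderOf x = s) (hy : orderOf y = r) (hxy : x * y = y * x) : orderOf (x * y) = s * r := by
  have hco : (orderOf x).Coprime (orderOf y) := by rw [hx, hy]; exact (Nat.coprime_primes hs hr).2 hne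
  have h1 := (show Commute x y from hxy).orderOf_mul_eq_mul_orderOf_of_coprime hco
  rwa [hx, hy] at h1

/-- the characteristic from the order of the field -/
theorem charP_of_pow {K : Type} [Field K] [Fintype K] {l a : ℕ} (hl : l.Prime) (h : Fintype.card K = l ^ a) :
    CharP K l := by
  obtain ⟨c, hc⟩ := CharP.exists K
  obtain ⟨m, hm, hcard⟩ := FiniteField.card K c
  rw [h] at hcard
  have h1 : c ∣ l ^ a := by rw [hcard]; exact dvd_pow_self c m.ne_zero
  have h3 : c = l := (Nat.prime_dvd_prime_iff_eq hm hl).1 (hm.dvd_of_dvd_pow h1)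
  rw [← h3]
  exact hc

/-! ### `Sz(8)` -/

/-- the orders of the elements of the Suzuki group -/
theorem sz_orderOf {F : Type*} [Field F] [Fintype F] {m : ℕ} (hm : 1 ≤ m)
    (hF : Fintype.card F = 2 ^ (2 * m + 1)) (x : ↥(Cfsg.Lie.Sz F (2 ^ (m + 1)))) :
    orderOf x ∣ 4 ∨ orderOf x ∣ 2 ^ (2 * m + 1) - 1 ∨ orderOf x ∣ 2 ^ (2 * m + 1) + 2 ^ (m + 1) + 1 ∨
      orderOf x ∣ 2 ^ (2 * m + 1) - 2 ^ (m + 1) + 1 := by
  obtain ⟨e⟩ := Cfsg.Agent.OddCyclic.ClaimC.SzIso.iso (F := F) hm hF
  obtain ⟨g, rfl⟩ := e.surjective x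
  rw [MulEquiv.orderOf_eq]
  by_cases hg : g = 1
  · left
    rw [hg, orderOf_one]
    exact one_dvd 4
  obtain ⟨U, ⟨hU, hgU⟩, -⟩ := Cfsg.Agent.S2238.result hm hF g hg
  rcases hU with ⟨P, rfl⟩ | ⟨-, hc⟩
  · left
    have h1 := (Cfsg.Agent.S0330.result hm hF P).2.1
    have h2 : orderOf (⟨g, hgU⟩ : (P : Subgroup (Cfsg.Sz F m))) ∣ Monoid.exponent P := Monoid.order_dvd_exponent _
    rw [Subgroup.orderOf_mk] at h2
    exact h2.trans h1.dvd
  · right
    have h2 : orderOf (⟨g, hgU⟩ : U) ∣ Nat.card U := orderOf_dvd_natCard _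
    rw [Subgroup.orderOf_mk] at h2
    rcases hc with hc | hc | hc
    · exact Or.inl (hc ▸ h2)
    · exact Or.inr (Or.inl (hc ▸ h2))
    · exact Or.inr (Or.inr (hc ▸ h2))

theorem k_sz8 {F : Type} [Field F] [Fintype F] (hF : Fintype.card F = 2 ^ (2 * 1 + 1)) :
    Nat.card (ConjClasses ↥(Cfsg.Lie.Sz F (2 ^ (1 + 1)))) ≤ 23 := by
  have hcard : Nat.card ↥(Cfsg.Lie.Sz F (2 ^ (1 + 1))) = 29120 := (S1163.result le_rfl hF).1.trans (by norm_num)
  have : Finite ↥(Cfsg.Lie.Sz F (2 ^ (1 + 1))) := Nat.finite_of_card_ne_zero (by rw [hcard]; norm_num)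
  have f7 : Fact (Nat.Prime 7) := ⟨by norm_num⟩
  have f13 : Fact (Nat.Prime 13) := ⟨by norm_num⟩
  obtain ⟨x7, hx7⟩ := exists_prime_orderOf_dvd_card' (G := ↥(Cfsg.Lie.Sz F (2 ^ (1 + 1)))) 7 (by rw [hcard]; norm_num)
  obtain ⟨x13, hx13⟩ := exists_prime_orderOf_dvd_card' (G := ↥(Cfsg.Lie.Sz F (2 ^ (1 + 1)))) 13 (by rw [hcard]; norm_num)
  have key : ∀ s : ℕ, s = 7 ∨ s = 13 → ∀ x : ↥(Cfsg.Lie.Sz F (2 ^ (1 + 1))), orderOf x = s →
      Nat.card (Subgroup.centralizer ({x} : Set ↥(Cfsg.Lie.Sz F (2 ^ (1 + 1))))) ≤ s := by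
    intro s hs x hx
    have hsp : s.Prime := by rcases hs with rfl | rfl <;> norm_num
    have hc : Nat.card ↥(Cfsg.Lie.Sz F (2 ^ (1 + 1))) = s * (29120 / s) := by
      rw [hcard]; rcases hs with rfl | rfl <;> norm_num
    refine Nat.le_of_dvd hsp.pos (cent_dvd hc ?_)
    rintro r hr hrd ⟨y, hxy, hy⟩
    have hne : s ≠ r := by
      rintro rfl
      rcases hs with rfl | rfl <;> revert hrd <;> norm_num
    have ho := orderOf_mul_of_prime hsp hr hne hx hy hxy
    have h2 := sz_orderOf le_rfl hF (x * y)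
    rw [ho] at h2
    norm_num at h2
    have hr2 := hr.two_le
    rcases hs with rfl | rfl
    · rcases h2 with h2 | h2 | h2 | h2
      · have := Nat.le_of_dvd (by norm_num) h2; omega
      · have := Nat.le_of_dvd (by norm_num) h2; omega
      · have := (Dvd.intro _ rfl).trans h2; revert this; norm_num
      · have := Nat.le_of_dvd (by norm_num) h2; omega
    · rcases h2 with h2 | h2 | h2 | h2
      · have := Nat.le_of_dvd (by norm_num) h2; omega
      · have := Nat.le_of_dvd (by norm_num) h2; omega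
      · have := Nat.le_of_dvd (by norm_num) h2; omega
      · have := Nat.le_of_dvd (by norm_num) h2; omega
  have h := H540.EngG.card_conjClasses_le' (G := ↥(Cfsg.Lie.Sz F (2 ^ (1 + 1)))) {7, 13}
    (by intro r hr; simp at hr; rcases hr with rfl | rfl <;> norm_num)
    (fun r => if r = 7 then x7 else x13) (by
      intro r hr; simp at hr
      rcases hr with rfl | rfl
      · exact ⟨1, by simp [hx7]⟩
      · exact ⟨1, by simp [hx13]⟩)
  rw [Finset.sum_pair (by norm_num), Finset.prod_pair (by norm_num), hcard] at h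
  have h7 := key 7 (Or.inl rfl) x7 hx7
  have h13 := key 13 (Or.inr rfl) x13 hx13
  simp only [if_pos, if_neg (show (13 : ℕ) ≠ 7 by norm_num)] at h
  norm_num at h
  omega

/-- **`Sz(q)`** -/
theorem rowSz : RowOf (fun T _ => Lie.IsoSuzuki T) := by
  rintro T _ _ _ hT ⟨F, _, _, m, hm, hF, ⟨e⟩⟩
  rcases Nat.lt_or_ge m 2 with h | h
  · obtain rfl : m = 1 := by omega
    have hcard : Nat.card ↥(Cfsg.Lie.Sz F (2 ^ (1 + 1))) = 29120 := (S1163.result le_rfl hF).1.trans (by norm_num)
    have hout := S2126.result le_rfl hF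
    have hls := LS.sz.{0, 0, 0} le_rfl hF
    rw [Nat.card_eq_fintype_card, hF] at hls
    have hc : Nat.card T = 29120 := (Nat.card_congr e.toEquiv).trans hcard
    refine row_of (b := 3) (D := 7) (K := 23 * 3) (by norm_num) (fun p hp hpT => three_le (n := Nat.card T) (by
      rw [hc]; norm_num) hp hpT) (fun p f d hs => ?_) ?_ (by norm_num)
    · exact le_of_ls hs Nat.prime_two (by rw [hc]; norm_num) ((hls.mono (by norm_num)).congr e.symm)
    · rw [H934.OutB.card_out_congr e, H540.ClassNum.card_conjClasses_congr e]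
      exact Nat.mul_le_mul (k_sz8 hF) hout.le
  · exact rowSz_large h hF e

/-! ### the divisibility condition -/

theorem icc3 (g : ℕ → ℕ) : ∏ i ∈ Finset.Icc 2 3, g i = g 2 * g 3 := by
  rw [Finset.prod_Icc_succ_top (by norm_num), Finset.Icc_self, Finset.prod_singleton]

theorem icc4 (g : ℕ → ℕ) : ∏ i ∈ Finset.Icc 2 4, g i = g 2 * g 3 * g 4 := by
  rw [Finset.prod_Icc_succ_top (by norm_num), icc3]

theorem icc5 (g : ℕ → ℕ) : ∏ i ∈ Finset.Icc 2 5, g i = g 2 * g 3 * g 4 * g 5 := by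
  rw [Finset.prod_Icc_succ_top (by norm_num), icc4]

theorem icc6 (g : ℕ → ℕ) : ∏ i ∈ Finset.Icc 2 6, g i = g 2 * g 3 * g 4 * g 5 * g 6 := by
  rw [Finset.prod_Icc_succ_top (by norm_num), icc5]

/-! ### `G₂(3)` and `G₂(4)` -/

theorem chkG4_3 : ∀ p < 374, 11 ≤ p → ¬ 251596800 ∣ (p ^ 2 - 1) * (p ^ 3 - 1) := by decide +kernel
theorem chkG4_4 : ∀ p < 52, 11 ≤ p → ¬ 251596800 ∣ (p ^ 2 - 1) * (p ^ 3 - 1) * (p ^ 4 - 1) := by decide +kernel
theorem chkG4_5 : ∀ p < 20, 11 ≤ p → ¬ 251596800 ∣ (p ^ 2 - 1) * (p ^ 3 - 1) * (p ^ 4 - 1) * (p ^ 5 - 1) := by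
  decide +kernel
theorem chkG4_32 : ∀ p < 23, 11 ≤ p → ¬ 251596800 ∣ ((p ^ 2) ^ 2 - 1) * ((p ^ 2) ^ 3 - 1) := by decide +kernel

theorem chkG3_6 : ∀ p < 7, 5 ≤ p →
    ¬ 4245696 ∣ (p ^ 2 - 1) * (p ^ 3 - 1) * (p ^ 4 - 1) * (p ^ 5 - 1) * (p ^ 6 - 1) := by decide +kernel

theorem chkT_3 : ∀ p < 137, 7 ≤ p → ¬ 17971200 ∣ (p ^ 2 - 1) * (p ^ 3 - 1) := by decide +kernel
theorem chkT_4 : ∀ p < 27, 7 ≤ p → ¬ 17971200 ∣ (p ^ 2 - 1) * (p ^ 3 - 1) * (p ^ 4 - 1) := by decide +kernel
theorem chkT_5 : ∀ p < 12, 7 ≤ p → ¬ 17971200 ∣ (p ^ 2 - 1) * (p ^ 3 - 1) * (p ^ 4 - 1) * (p ^ 5 - 1) := by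
  decide +kernel
theorem chkT_6 : ∀ p < 8, 7 ≤ p →
    ¬ 17971200 ∣ (p ^ 2 - 1) * (p ^ 3 - 1) * (p ^ 4 - 1) * (p ^ 5 - 1) * (p ^ 6 - 1) := by decide +kernel
theorem chkT_32 : ∀ p < 14, 7 ≤ p → ¬ 17971200 ∣ ((p ^ 2) ^ 2 - 1) * ((p ^ 2) ^ 3 - 1) := by decide +kernel

open Cfsg.Agent.BpLieP.Big (LocChar) in
/-- the class number of `G₂(q)` -/
theorem k_g2 {F : Type} [Field F] [Fintype F] {p q a : ℕ} [hp : Fact p.Prime] [CharP F p] (hF : Fintype.card F = q)
    (h3 : 3 ≤ q) (hL : LocChar p ↥(Lie.chevG2.group F))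
    (hfac : (Nat.card ↥(Lie.chevG2.group F)).factorization p = a + 1) :
    Nat.card (ConjClasses ↥(Lie.chevG2.group F)) ≤ p ^ (a + 1) + (q ^ 2 - 1) * p ^ a := by
  have hfin : Finite (GL Lie.chevG2.Idx F) := inferInstance
  have hcl := S2382.result (F := F) hF p Lie.chevG2 (by simp)
  have hk := GoodC.k_le_pprime' p hcl.le hfac.le (fun s hs1 hs => GoodC.factorization_le p hL hfac hs1 hs)
  exact hk

open Cfsg.Agent.BpLieP.Big (LocChar) in
theorem k_g23 {F : Type} [Field F] [Fintype F] (hF : Fintype.card F = 3) :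
    Nat.card (ConjClasses ↥(Lie.chevG2.group F)) ≤ 2673 := by
  have hfin : Finite (GL Lie.chevG2.Idx F) := inferInstance
  have : Fact (Nat.Prime 3) := ⟨Nat.prime_three⟩
  have hc : CharP F 3 := charP_of_pow Nat.prime_three (a := 1) (by rw [hF, pow_one])
  have hL : LocChar 3 ↥(Lie.chevG2.group F) := by
    refine H400.LieLocal.local_char_of_lie ?_ (fun h => absurd h.1 (by norm_num))
    refine Or.inr (Or.inr (Or.inr (Or.inr (Or.inr (Or.inr (Or.inl ?_))))))
    exact ⟨F, _, _, hc, Or.inl ⟨hF.ge, ⟨MulEquiv.refl _⟩⟩⟩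
  have hcard : Nat.card ↥(Lie.chevG2.group F) = 4245696 := (S1059.result (F := F) hF).trans (by norm_num)
  have hfac : (Nat.card ↥(Lie.chevG2.group F)).factorization 3 = 5 + 1 := by
    rw [hcard]
    have h1 : (4245696 : ℕ) = 3 ^ 6 * 5824 := by norm_num
    rw [h1, Nat.factorization_mul (by norm_num) (by norm_num), Nat.prime_three.factorization_pow]
    have h2 : (5824 : ℕ).factorization 3 = 0 := Nat.factorization_eq_zero_of_not_dvd (by norm_num)
    simp [h2]
  refine (k_g2 hF le_rfl hL hfac).trans (by norm_num)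

open Cfsg.Agent.BpLieP.Big (LocChar) in
theorem k_g24 {F : Type} [Field F] [Fintype F] (hF : Fintype.card F = 4) :
    Nat.card (ConjClasses ↥(Lie.chevG2.group F)) ≤ 34816 := by
  have hfin : Finite (GL Lie.chevG2.Idx F) := inferInstance
  have : Fact (Nat.Prime 2) := ⟨Nat.prime_two⟩
  have hc : CharP F 2 := charP_of_pow Nat.prime_two (a := 2) (by rw [hF]; norm_num)
  have hcard : Nat.card ↥(Lie.chevG2.group F) = 251596800 := (S1059.result (F := F) hF).trans (by norm_num)
  have hL : LocChar 2 ↥(Lie.chevG2.group F) := by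
    refine H400.LieLocal.local_char_of_lie ?_ (fun h => ?_)
    · refine Or.inr (Or.inr (Or.inr (Or.inr (Or.inr (Or.inr (Or.inl ?_))))))
      exact ⟨F, _, _, hc, Or.inl ⟨by rw [hF]; norm_num, ⟨MulEquiv.refl _⟩⟩⟩
    · obtain ⟨-, F', _, _, m, hm, hF', ⟨e⟩⟩ := h
      have h1 := (S1163.result hm hF').1
      rw [← Nat.card_congr e.toEquiv, hcard] at h1
      have h4 : 2 ^ (2 * m + 1) % 3 = 2 := by
        rw [pow_succ, pow_mul, Nat.mul_mod, Nat.pow_mod]
        norm_num
      generalize 2 ^ (2 * m + 1) = q at h1 h4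
      have h5 : ((q ^ 2 * (q - 1) * (q ^ 2 + 1)) % 3) = 2 := by
        obtain ⟨c, hc⟩ : ∃ c, q = 3 * c + 2 := ⟨q / 3, by omega⟩
        have h6 : q - 1 = 3 * c + 1 := by omega
        rw [h6, hc]
        simp [Nat.mul_mod, Nat.add_mod, Nat.pow_mod]
      rw [← h1] at h5
      norm_num at h5
  have hfac : (Nat.card ↥(Lie.chevG2.group F)).factorization 2 = 11 + 1 := by
    rw [hcard]
    have h1 : (251596800 : ℕ) = 2 ^ 12 * 61425 := by norm_num
    rw [h1, Nat.factorization_mul (by norm_num) (by norm_num), Nat.prime_two.factorization_pow]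
    have h2 : (61425 : ℕ).factorization 2 = 0 := Nat.factorization_eq_zero_of_not_dvd (by norm_num)
    simp [h2]
  refine (k_g2 hF (by norm_num) hL hfac).trans (by norm_num)

theorem row_g23 {T : Type} [Group T] [Finite T] [Nontrivial T] {F : Type} [Field F] [Fintype F]
    (hF : Fintype.card F = 3) (e : T ≃* ↥(chevG2.group F)) : Row T := by
  have hfin : Finite (GL Lie.chevG2.Idx F) := inferInstance
  have : Fact (Nat.Prime 3) := ⟨Nat.prime_three⟩
  have hc : CharP F 3 := charP_of_pow Nat.prime_three (a := 1) (by rw [hF, pow_one])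
  have hcard : Nat.card T = 4245696 :=
    (Nat.card_congr e.toEquiv).trans ((S1059.result (F := F) hF).trans (by norm_num))
  have hout := S2121.result (F := F) 3 1 (by rw [hF, pow_one]) (by norm_num)
  rw [if_pos rfl, ← H934.OutB.card_out_congr e] at hout
  have hls := H203.LS.G2.ls.{0, 0, 0} (r := 3) F (by rw [Nat.card_eq_fintype_card]; omega)
    (by rw [Nat.card_eq_fintype_card]; omega)
  rw [Nat.card_eq_fintype_card, hF] at hls
  have hk := k_g23 hF
  rw [← H540.ClassNum.card_conjClasses_congr e] at hk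
  intro p f d hs
  have hK : Nat.card (ConjClasses T) * Nat.card (Cfsg.Out T) ≤ 5346 := Nat.mul_le_mul hk hout.le
  refine (Nat.mul_le_mul_left _ hK).trans ?_
  have hd6 : 6 ≤ d := le_of_ls hs Nat.prime_three (by rw [hcard]; norm_num) (hls.congr e.symm)
  have hp5 : 5 ≤ p := five_le (n := Nat.card T) (by rw [hcard]; norm_num) (by rw [hcard]; norm_num) hs.prime hs.coprime
  have hf := hs.f_pos
  have hdvd := hs.dvd
  rw [hcard] at hdvd
  rcases Nat.lt_or_ge f 2 with hf2 | hf2
  · obtain rfl : f = 1 := by omega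
    rcases Nat.lt_or_ge d 7 with hd7 | hd7
    · obtain rfl : d = 6 := by omega
      rcases Nat.lt_or_ge p 7 with hp7 | hp7
      · rw [icc6, pow_one] at hdvd
        exact absurd hdvd (chkG3_6 p hp7 hp5)
      · exact num_of (by omega) le_rfl le_rfl (by omega)
          (le_trans (by norm_num) (Nat.pow_le_pow_left hp7 _))
    · exact num_of (by omega) le_rfl le_rfl (by omega) (le_trans (by norm_num : 2 * 1 * 5346 ≤ 5 ^ (1 * (7 - 1)))
        ((Nat.pow_le_pow_left hp5 _).trans (Nat.pow_le_pow_right (by omega) (by omega))))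
  · exact num_of (by omega) (by norm_num) hf2 (by omega) (le_trans (by norm_num : 2 * 2 * 5346 ≤ 5 ^ (2 * (6 - 1)))
        ((Nat.pow_le_pow_left hp5 _).trans (Nat.pow_le_pow_right (by omega) (by omega))))

theorem row_g24 {T : Type} [Group T] [Finite T] [Nontrivial T] {F : Type} [Field F] [Fintype F]
    (hF : Fintype.card F = 4) (e : T ≃* ↥(chevG2.group F)) : Row T := by
  have hfin : Finite (GL Lie.chevG2.Idx F) := inferInstance
  have : Fact (Nat.Prime 2) := ⟨Nat.prime_two⟩
  have hc : CharP F 2 := charP_of_pow Nat.prime_two (a := 2) (by rw [hF]; norm_num)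
  have hcard : Nat.card T = 251596800 :=
    (Nat.card_congr e.toEquiv).trans ((S1059.result (F := F) hF).trans (by norm_num))
  have hout := S2121.result (F := F) 2 2 (by rw [hF]; norm_num) (by norm_num)
  rw [if_neg (by norm_num), ← H934.OutB.card_out_congr e] at hout
  have hk := k_g24 hF
  rw [← H540.ClassNum.card_conjClasses_congr e] at hk
  intro p f d hs
  have hK : Nat.card (ConjClasses T) * Nat.card (Cfsg.Out T) ≤ 69632 := Nat.mul_le_mul hk hout.le
  refine (Nat.mul_le_mul_left _ hK).trans ?_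
  have hd3 := hs.three_le
  have hp11 : 11 ≤ p := by
    have hne : ∀ r : ℕ, r ∣ 251596800 → p ≠ r := by
      rintro r hr rfl
      exact hs.coprime (hcard ▸ hr)
    have h2 := hs.prime.two_le
    by_contra hcon
    have hp := hs.prime
    interval_cases p
    · exact hne 2 (by norm_num) rfl
    · exact hne 3 (by norm_num) rfl
    · revert hp; norm_num
    · exact hne 5 (by norm_num) rfl
    · revert hp; norm_num
    · exact hne 7 (by norm_num) rfl
    · revert hp; norm_num
    · revert hp; norm_num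
    · revert hp; norm_num
  have hf := hs.f_pos
  have hdvd := hs.dvd
  rw [hcard] at hdvd
  rcases Nat.lt_or_ge f 2 with hf2 | hf2
  · obtain rfl : f = 1 := by omega
    rcases Nat.lt_or_ge d 6 with hd7 | hd7
    · obtain rfl | rfl | rfl : d = 3 ∨ d = 4 ∨ d = 5 := by omega
      · rcases Nat.lt_or_ge p 374 with hp7 | hp7
        · rw [icc3, pow_one] at hdvd
          exact absurd hdvd (chkG4_3 p hp7 hp11)
        · exact num_of (by omega) le_rfl le_rfl (by omega)
            (le_trans (by norm_num) (Nat.pow_le_pow_left hp7 _))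
      · rcases Nat.lt_or_ge p 52 with hp7 | hp7
        · rw [icc4, pow_one] at hdvd
          exact absurd hdvd (chkG4_4 p hp7 hp11)
        · exact num_of (by omega) le_rfl le_rfl (by omega)
            (le_trans (by norm_num) (Nat.pow_le_pow_left hp7 _))
      · rcases Nat.lt_or_ge p 20 with hp7 | hp7
        · rw [icc5, pow_one] at hdvd
          exact absurd hdvd (chkG4_5 p hp7 hp11)
        · exact num_of (by omega) le_rfl le_rfl (by omega)
            (le_trans (by norm_num) (Nat.pow_le_pow_left hp7 _))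
    · exact num_of (by omega) le_rfl le_rfl (by omega) (le_trans (by norm_num : 2 * 1 * 69632 ≤ 11 ^ (1 * (6 - 1)))
        ((Nat.pow_le_pow_left hp11 _).trans (Nat.pow_le_pow_right (by omega) (by omega))))
  · rcases Nat.lt_or_ge d 4 with hd4 | hd4
    · obtain rfl : d = 3 := by omega
      rcases Nat.lt_or_ge f 3 with hf3 | hf3
      · obtain rfl : f = 2 := by omega
        rcases Nat.lt_or_ge p 23 with hp7 | hp7
        · rw [icc3] at hdvd
          exact absurd hdvd (chkG4_32 p hp7 hp11)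
        · exact num_of (by omega) (by norm_num) le_rfl (by omega)
            (le_trans (by norm_num) (Nat.pow_le_pow_left hp7 _))
      · exact num_of (by omega) (by norm_num) hf3 (by omega) (le_trans (by norm_num)
          (Nat.pow_le_pow_left hp11 _))
    · exact num_of (by omega) (by norm_num) hf2 (by omega) (le_trans (by norm_num : 2 * 2 * 69632 ≤ 11 ^ (2 * (4 - 1)))
        ((Nat.pow_le_pow_left hp11 _).trans (Nat.pow_le_pow_right (by omega) (by omega))))

/-- **`G₂(q)`** -/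
theorem rowG2 : RowOf (fun T _ => Lie.IsoChevG2 T) := by
  rintro T _ _ _ hT ⟨F, _, _, h3, ⟨e⟩⟩
  rcases Nat.lt_or_ge (Fintype.card F) 5 with h | h
  · rcases (show Fintype.card F = 3 ∨ Fintype.card F = 4 by omega) with h | h
    · exact row_g23 h e
    · exact row_g24 h e
  · exact rowG2_large h e

/-! ### the Tits group -/

theorem k_tits {T : Type} [Group T] [Finite T] [IsSimpleGroup T] (h : Lie.IsoTits T) :
    Nat.card (ConjClasses T) ≤ 4654 := by
  have F := H235.TitsRow.facts h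
  have hcard := F.card
  have f5 : Fact (Nat.Prime 5) := ⟨by norm_num⟩
  have f13 : Fact (Nat.Prime 13) := ⟨by norm_num⟩
  obtain ⟨x5, hx5⟩ := exists_prime_orderOf_dvd_card' (G := T) 5 (by rw [hcard]; norm_num)
  obtain ⟨x13, hx13⟩ := exists_prime_orderOf_dvd_card' (G := T) 13 (by rw [hcard]; norm_num)
  have h5 := F.cent x5 hx5
  have h13 : Nat.card (Subgroup.centralizer ({x13} : Set T)) ≤ 351 := by
    refine Nat.le_of_dvd (by norm_num) (cent_dvd (a := 351) (b := 2 ^ 11 * 5 ^ 2) (by rw [hcard]; norm_num) ?_)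
    rintro r hr hrd ⟨y, hxy, hy⟩
    rcases hr.dvd_mul.1 hrd with h6 | h6
    · have h7 := (Nat.prime_dvd_prime_iff_eq hr Nat.prime_two).1 (hr.dvd_of_dvd_pow h6)
      subst h7
      exact F.na x13 y hx13 hy hxy
    · have h7 := (Nat.prime_dvd_prime_iff_eq hr (by norm_num : Nat.Prime 5)).1 (hr.dvd_of_dvd_pow h6)
      subst h7
      have h8 := F.cent y hy
      have h9 : x13 ∈ Subgroup.centralizer ({y} : Set T) := Subgroup.mem_centralizer_singleton_iff.2 hxy
      have h10 := Subgroup.orderOf_dvd_natCard _ h9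
      rw [h8, hx13] at h10
      revert h10
      norm_num
  have h := H540.EngG.card_conjClasses_le' (G := T) {5, 13}
    (by intro r hr; simp at hr; rcases hr with rfl | rfl <;> norm_num)
    (fun r => if r = 5 then x5 else x13) (by
      intro r hr; simp at hr
      rcases hr with rfl | rfl
      · exact ⟨1, by simp [hx5]⟩
      · exact ⟨1, by simp [hx13]⟩)
  rw [Finset.sum_pair (by norm_num), Finset.prod_pair (by norm_num), hcard] at h
  simp only [if_pos, if_neg (show (13 : ℕ) ≠ 5 by norm_num)] at h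
  rw [h5] at h
  norm_num at h
  omega

/-- **The Tits group** -/
theorem rowTits : RowOf (fun T _ => Lie.IsoTits T) := by
  intro T _ _ _ hT h p f d hs
  have hcard : Nat.card T = 17971200 := (H235.TitsRow.facts h).card
  have hK : Nat.card (ConjClasses T) * Nat.card (Cfsg.Out T) ≤ 9308 :=
    Nat.mul_le_mul (k_tits h) (H867.TitsOut.card_out_le h)
  refine (Nat.mul_le_mul_left _ hK).trans ?_
  have hd3 := hs.three_le
  have hp7 : 7 ≤ p := by
    have hne : ∀ r : ℕ, r ∣ 17971200 → p ≠ r := by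
      rintro r hr rfl
      exact hs.coprime (hcard ▸ hr)
    have h2 := hs.prime.two_le
    by_contra hcon
    have hp := hs.prime
    interval_cases p
    · exact hne 2 (by norm_num) rfl
    · exact hne 3 (by norm_num) rfl
    · revert hp; norm_num
    · exact hne 5 (by norm_num) rfl
    · revert hp; norm_num
  have hf := hs.f_pos
  have hdvd := hs.dvd
  rw [hcard] at hdvd
  rcases Nat.lt_or_ge f 2 with hf2 | hf2
  · obtain rfl : f = 1 := by omega
    rcases Nat.lt_or_ge d 7 with hd7 | hd7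
    · obtain rfl | rfl | rfl | rfl : d = 3 ∨ d = 4 ∨ d = 5 ∨ d = 6 := by omega
      · rcases Nat.lt_or_ge p 137 with hp | hp
        · rw [icc3, pow_one] at hdvd
          exact absurd hdvd (chkT_3 p hp hp7)
        · exact num_of (by omega) le_rfl le_rfl (by omega)
            (le_trans (by norm_num) (Nat.pow_le_pow_left hp _))
      · rcases Nat.lt_or_ge p 27 with hp | hp
        · rw [icc4, pow_one] at hdvd
          exact absurd hdvd (chkT_4 p hp hp7)
        · exact num_of (by omega) le_rfl le_rfl (by omega)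
            (le_trans (by norm_num) (Nat.pow_le_pow_left hp _))
      · rcases Nat.lt_or_ge p 12 with hp | hp
        · rw [icc5, pow_one] at hdvd
          exact absurd hdvd (chkT_5 p hp hp7)
        · exact num_of (by omega) le_rfl le_rfl (by omega)
            (le_trans (by norm_num) (Nat.pow_le_pow_left hp _))
      · rcases Nat.lt_or_ge p 8 with hp | hp
        · rw [icc6, pow_one] at hdvd
          exact absurd hdvd (chkT_6 p hp hp7)
        · exact num_of (by omega) le_rfl le_rfl (by omega)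
            (le_trans (by norm_num) (Nat.pow_le_pow_left hp _))
    · exact num_of (by omega) le_rfl le_rfl (by omega) (le_trans (by norm_num : 2 * 1 * 9308 ≤ 7 ^ (1 * (7 - 1)))
        ((Nat.pow_le_pow_left hp7 _).trans (Nat.pow_le_pow_right (by omega) (by omega))))
  · rcases Nat.lt_or_ge d 4 with hd4 | hd4
    · obtain rfl : d = 3 := by omega
      rcases Nat.lt_or_ge f 3 with hf3 | hf3
      · obtain rfl : f = 2 := by omega
        rcases Nat.lt_or_ge p 14 with hp | hp
        · rw [icc3] at hdvd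
          exact absurd hdvd (chkT_32 p hp hp7)
        · exact num_of (by omega) (by norm_num) le_rfl (by omega)
            (le_trans (by norm_num) (Nat.pow_le_pow_left hp _))
      · exact num_of (by omega) (by norm_num) hf3 (by omega) (le_trans (by norm_num)
          (Nat.pow_le_pow_left hp7 _))
    · exact num_of (by omega) (by norm_num) hf2 (by omega) (le_trans (by norm_num : 2 * 2 * 9308 ≤ 7 ^ (2 * (4 - 1)))
        ((Nat.pow_le_pow_left hp7 _).trans (Nat.pow_le_pow_right (by omega) (by omega))))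

end Cfsg.Agent.H528.KGV
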