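import Cfsg.Agent.H960.KGV.RowTab
import Cfsg.Agent.H203.LSDef

/-!
# TEAM KGV: rows of the table from lower bounds for degrees (helper528)

* `le_of_ls` : `LS r D T`, `r ∣ |T|` gives `D ≤ d` for all `Sit T p f d`;
* `num` : `2 K ≤ b ^ (D - 1)`, `b ≤ p`, `D ≤ d` gives `2 f (Q - 1) K ≤ Q ^ d`;
* `row_of` : the row from a lower bound `D` for `d`, a lower bound `b` for `p` and an upper bound `K` for `k(T) |Out T|`;
* `row_triv` : the same with the trivial bound `k(T) ≤ |T|`.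
-/

set_option autoImplicit false

namespace Cfsg.Agent.H528.KGV

open Cfsg Cfsg.Agent.H960.KGV Cfsg.Agent.H203.LS

/-- the characteristic of the field in `HasRep` -/
theorem natCast_ne_zero {F : Type} [Field F] [Finite F] {p f r : ℕ} (hp : p.Prime) (hr : r.Prime) (hrp : r ≠ p)
    (hF : Nat.card F = p ^ f) : (r : F) ≠ 0 := by
  have := Fintype.ofFinite F
  obtain ⟨c, hc⟩ := CharP.exists F
  obtain ⟨m, hcp, hm⟩ := FiniteField.card F c
  rw [← Nat.card_eq_fintype_card, hF] at hm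
  have h1 : c ∣ p ^ f := by rw [hm]; exact dvd_pow_self c m.pos.ne'
  have h2 : c = p := (Nat.prime_dvd_prime_iff_eq hcp hp).1 (hcp.dvd_of_dvd_pow h1)
  intro h0
  have h3 : c ∣ r := (CharP.cast_eq_zero_iff F c r).1 h0
  have h4 : c = r := (Nat.prime_dvd_prime_iff_eq hcp hr).1 h3
  exact hrp (h4.symm.trans h2)

/-- **The lower bound for `d` from `LS`.** -/
theorem le_of_ls {T : Type} [Group T] [Nontrivial T] {p f d r D : ℕ} (h : Sit T p f d) (hr : r.Prime)
    (hrT : r ∣ Nat.card T) (hls : LS.{0, 0, 0} r D T) : D ≤ d := by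
  obtain ⟨E, _, _, F, _, _, ρ, hE, ⟨e⟩, hpE, hF, hρ, -, -⟩ := h.rep
  refine hls E (e.toMonoidHom.comp (QuotientGroup.mk' _))
    (e.surjective.comp (QuotientGroup.mk'_surjective _)) ?_ hE F ?_ d ρ ?_
  · intro x hx
    rw [MonoidHom.mem_ker] at hx
    have h0 : e (QuotientGroup.mk' _ x) = 1 := hx
    have h1 := (map_eq_one_iff e e.injective).1 h0
    rwa [QuotientGroup.mk'_apply, QuotientGroup.eq_one_iff] at h1
  · refine natCast_ne_zero h.prime hr ?_ hF
    rintro rfl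
    exact h.coprime hrT
  · rintro rfl
    have hsub : Subsingleton E := ⟨fun a b => hρ rfl⟩
    have : Subsingleton (E ⧸ Subgroup.center E) := (QuotientGroup.mk_surjective (s := Subgroup.center E)).subsingleton
    have : Subsingleton T := e.symm.injective.subsingleton
    exact not_subsingleton T this

/-- the inequality -/
theorem num {p f d b D K : ℕ} (hb2 : 2 ≤ b) (hb : b ≤ p) (hf : 1 ≤ f) (hd3 : 2 ≤ d) (hd : D ≤ d)
    (h : 2 * K ≤ b ^ (D - 1)) : 2 * f * (p ^ f - 1) * K ≤ (p ^ f) ^ d := by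
  have h1 : f ≤ b ^ ((f - 1) * (d - 1)) := by
    have h2 : f - 1 < 2 ^ (f - 1) := Nat.lt_two_pow_self
    calc f ≤ 2 ^ (f - 1) := by omega
      _ ≤ b ^ (f - 1) := Nat.pow_le_pow_left hb2 _
      _ ≤ b ^ ((f - 1) * (d - 1)) := Nat.pow_le_pow_right (by omega) (Nat.le_mul_of_pos_right _ (by omega))
  have h3 : 2 * f * K ≤ (p ^ f) ^ (d - 1) := by
    calc 2 * f * K = f * (2 * K) := by ring
      _ ≤ b ^ ((f - 1) * (d - 1)) * b ^ (d - 1) :=
          Nat.mul_le_mul h1 (h.trans (Nat.pow_le_pow_right (by omega) (by omega)))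
      _ = (b ^ f) ^ (d - 1) := by
          rw [← pow_add, ← pow_mul]
          congr 1
          obtain ⟨g, rfl⟩ : ∃ g, f = g + 1 := ⟨f - 1, by omega⟩
          rw [Nat.add_sub_cancel]
          ring
      _ ≤ _ := Nat.pow_le_pow_left (Nat.pow_le_pow_left hb f) _
  calc 2 * f * (p ^ f - 1) * K = 2 * f * K * (p ^ f - 1) := by ring
    _ ≤ (p ^ f) ^ (d - 1) * p ^ f := Nat.mul_le_mul h3 (Nat.sub_le _ _)
    _ = _ := by
      rw [← pow_succ]
      congr 1
      omega

/-- **The row from a bound for `d`.** -/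
theorem row_of {T : Type} [Group T] {b D K : ℕ} (hb2 : 2 ≤ b) (hb : ∀ p : ℕ, p.Prime → ¬ p ∣ Nat.card T → b ≤ p)
    (hD : ∀ p f d : ℕ, Sit T p f d → D ≤ d) (hK : Nat.card (ConjClasses T) * Nat.card (Cfsg.Out T) ≤ K)
    (h : 2 * K ≤ b ^ (D - 1)) : Row T := by
  intro p f d hs
  exact (Nat.mul_le_mul_left _ hK).trans
    (num hb2 (hb p hs.prime hs.coprime) hs.f_pos (by have := hs.three_le; omega) (hD p f d hs) h)

/-- primes not dividing a number divisible by 6 -/
theorem five_le {n p : ℕ} (h2 : 2 ∣ n) (h3 : 3 ∣ n) (hp : p.Prime) (h : ¬ p ∣ n) : 5 ≤ p := by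
  have h5 : p ≠ 2 := by rintro rfl; exact h h2
  have h6 : p ≠ 3 := by rintro rfl; exact h h3
  by_contra hcon
  have h7 := hp.two_le
  have h8 : p = 4 := by omega
  rw [h8] at hp
  exact absurd hp (by decide)

theorem three_le {n p : ℕ} (h2 : 2 ∣ n) (hp : p.Prime) (h : ¬ p ∣ n) : 3 ≤ p := by
  have h5 : p ≠ 2 := by rintro rfl; exact h h2
  have h7 := hp.two_le
  omega

/-- **The row from `LS` and the trivial bound for the class number.** -/
theorem row_triv {T : Type} [Group T] [Finite T] [Nontrivial T] {X : Type} [Group X] (e : T ≃* X) {r b D o N : ℕ}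
    (hr : r.Prime) (hrX : r ∣ Nat.card X) (hls : LS.{0, 0, 0} r D X) (hb2 : 2 ≤ b)
    (hb : ∀ p : ℕ, p.Prime → ¬ p ∣ Nat.card X → b ≤ p)
    (ho : Nat.card (Cfsg.Out X) ≤ o) (hN : Nat.card X ≤ N) (h : 2 * (N * o) ≤ b ^ (D - 1)) : Row T := by
  have hc : Nat.card T = Nat.card X := Nat.card_congr e.toEquiv
  refine row_of (K := N * o) hb2 (fun p hp hpT => hb p hp (by rwa [← hc])) (fun p f d hs => ?_) ?_ h
  · exact le_of_ls hs hr (by rwa [hc]) (hls.congr e.symm)
  · rw [H934.OutB.card_out_congr e]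
    refine Nat.mul_le_mul ?_ ho
    exact (H540.ClassNum.card_conjClasses_le_card.trans hc.le).trans hN

end Cfsg.Agent.H528.KGV
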